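import Mathlib
import Cfsg.Agent.Lib.M24Struct51.Parity
import Cfsg.Agent.S2054

/-!
# Type M(24): the parity from the identification one level down

If the quotient one level down is the presented `Fi₂₃`, whose multiplier is trivial, then `d` is not in the
commutator group of `⟨D_d⟩`.
-/

set_option autoImplicit false

namespace Cfsg.Agent.Lib.M24Struct51

open Cfsg
open Cfsg.Agent.Lib.M22Struct66 (nb inc)
open Cfsg.Agent.Lib.Fischer3T

universe u

variable {G : Type u} [Group G] {D : Set G} [Finite G]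

namespace Ctx

variable (hX : Ctx D)
include hX

theorem splits_of_fi23
    (h : ∀ d ∈ D, Nonempty ((↥(nbGroup D d) ⧸ Subgroup.center ↥(nbGroup D d)) ≃* Spor.Fi23)) : Splits D := by
  intro d hd hmem
  obtain ⟨e⟩ := h d hd
  set H := nbGroup D d
  have hdc : (⟨d, hX.self_mem hd⟩ : ↥H) ∈ commutator ↥H := by
    rw [evenPart, ← Subgroup.map_subtype_commutator] at hmem
    obtain ⟨k, hk, hkd⟩ := hmem
    rwa [show (⟨d, hX.self_mem hd⟩ : ↥H) = k from Subtype.ext hkd.symm]
  haveI : Small.{0} ↥H := inferInstance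
  let sh : Shrink.{0} ↥H ≃* ↥H := Shrink.mulEquiv
  let q : ↥H →* ↥H ⧸ Subgroup.center ↥H := QuotientGroup.mk' _
  let σ : Shrink.{0} ↥H →* Spor.Fi23 := (e.toMonoidHom.comp q).comp sh.toMonoidHom
  have hker : ∀ x, σ x = 1 → sh x ∈ Subgroup.center ↥H := fun x hx => by
    have : q (sh x) = 1 := e.injective (hx.trans (map_one e).symm)
    exact (QuotientGroup.eq_one_iff _).1 this
  have hstem : IsStemExtension σ := by
    refine ⟨?_, ?_, ?_⟩
    · exact (e.surjective.comp (QuotientGroup.mk'_surjective _)).comp sh.surjective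
    · intro x hx
      refine Subgroup.mem_center_iff.2 fun y => sh.injective ?_
      rw [map_mul, map_mul, Subgroup.mem_center_iff.1 (hker x hx) (sh y)]
    · intro x hx
      have hz := hker x hx
      rw [hX.center_nbGroup hd, Subgroup.mem_subgroupOf] at hz
      obtain ⟨n, hn⟩ := Subgroup.mem_zpowers_iff.1 hz
      have hmap : (commutator (Shrink.{0} ↥H)).map sh.toMonoidHom = commutator ↥H := by
        rw [commutator_def, Subgroup.map_commutator, Subgroup.map_top_of_surjective _ sh.surjective]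
        rfl
      obtain ⟨k, hk, hkd⟩ : sh x ∈ (commutator (Shrink.{0} ↥H)).map sh.toMonoidHom := by
        rw [hmap, show sh x = (⟨d, hX.self_mem hd⟩ : ↥H) ^ n from Subtype.ext (by simpa using hn.symm)]
        exact zpow_mem hdc n
      rwa [← sh.injective hkd]
  obtain ⟨π, hπ⟩ := S2054.result.2 (Shrink.{0} ↥H) σ hstem
  set d' := sh.symm ⟨d, hX.self_mem hd⟩
  have hd' : σ d' = 1 := by
    show e (q (sh (sh.symm _))) = 1
    rw [MulEquiv.apply_symm_apply, show q ⟨d, hX.self_mem hd⟩ = 1 from (QuotientGroup.eq_one_iff _).2 ?_,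
      map_one]
    rw [hX.center_nbGroup hd, Subgroup.mem_subgroupOf]
    exact Subgroup.mem_zpowers d
  obtain ⟨a, ha⟩ := hπ ⟨d', hd'⟩
  rw [Subsingleton.elim a 1, map_one] at ha
  have h1 : d' = 1 := (congrArg Subtype.val ha).symm
  have h2 : (⟨d, hX.self_mem hd⟩ : ↥H) = 1 := by
    rw [← MulEquiv.apply_symm_apply sh ⟨d, hX.self_mem hd⟩]
    exact (congrArg sh h1).trans (map_one sh)
  obtain ⟨c, hc, hdc'⟩ := hX.exists_outside hd
  have h3 : d = 1 := congrArg Subtype.val h2
  exact hdc' (h3 ▸ Commute.one_left c)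

end Ctx

end Cfsg.Agent.Lib.M24Struct51
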