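import Mathlib
import Cfsg.Agent.Lib.M24Struct51.Fi23Split

/-!
# Type M(24): the order clauses from the identification one level down
-/

set_option autoImplicit false

namespace Cfsg.Agent.Lib.M24Struct51

open Cfsg
open Cfsg.Agent.Lib.Fischer3T

universe u

variable {G : Type u} [Group G] {D : Set G} [Finite G]

/-- The order clauses of type M(24). -/
theorem clauses_of_facts (hF : Facts24 D) :
    (Cfsg.layer G).index = 2 ∧ D.ncard = 306936 ∧
      Nat.card G = 2 ^ 22 * 3 ^ 16 * 5 ^ 2 * 7 ^ 3 * 11 * 13 * 17 * 23 * 29 ∧ Cfsg.commutingWidth D = 24 ∧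
      ∀ d ∈ D, Subgroup.closure {y : G | y ∈ D ∧ y ≠ d ∧ Commute d y} = Subgroup.centralizer ({d} : Set G) :=
  ⟨hF.layer_index, hF.ncard_D, hF.card_G, hF.width, fun d hd => (hF.centralizer_eq d hd).symm⟩

/-- All base facts, if every group of type M(23) is the presented `Fi₂₃`. -/
theorem facts24_of_iso (hD : IsThreeTranspositionGroup D) (hprim : IsPrimitiveUnderConj D)
    (h : IsOfTypeM24 G D)
    (hiso : ∀ {R : Type u} [Group R] [Finite R] {E : Set R}, IsThreeTranspositionGroup E →
      IsPrimitiveUnderConj E → IsOfTypeM23 R E → Facts23 E → Nonempty (R ≃* Spor.Fi23)) : Facts24 D :=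
  have hX := ctx_of_m24 hD hprim h
  hX.facts24_of_splits (hX.splits_of_fi23 fun d hd =>
    hiso (M23Struct19.quot_group hX.grp hX.good hd) (hX.prim_down d hd) (hX.type_down d hd) (hX.facts d hd))

end Cfsg.Agent.Lib.M24Struct51
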