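import Mathlib
import Cfsg.Agent.S1697
import Cfsg.Agent.Lib.Fischer3T22.Config
import Cfsg.Agent.Lib.Fi22Unique49.Main
import Cfsg.Agent.Lib.M24Struct51.Local
import Cfsg.Agent.Lib.M23Struct19.Main

/-!
# Type M(23): the group is the presented `Fi₂₃`

A 3-subgroup of `⟨C_D(x)⟩` fixes a member `j` not commuting with `x`; the certificate then gives nine
neighbours of `x` of which all but one commute with `j`, and the relators of `Fi₂₃` hold on these ten.
-/

set_option autoImplicit false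

namespace Cfsg.Agent.Lib.M24Struct51

open Cfsg Cfsg.Agent.Lib.ThreeTransp Cfsg.Agent.Lib.ThreeTransp.Products
open Cfsg.Agent.Lib.M22Struct66 (nb inc com2 commute_of_mem_closure)
open Cfsg.Agent.Lib.Fischer5 (qmap qmap_inj mem_nbrImage)
open Cfsg.Agent.Lib.Fischer3T
open Cfsg.Agent.Lib.CosetTable (eval)

universe u

variable {G : Type u} [Group G] [Finite G] {D : Set G}

/-- An element of `⟨C_D(x)⟩` vanishing in the quotient is `1` or `x`. -/
theorem eq_one_or_self (hD : IsThreeTranspositionGroup D) (hF : Facts23 D) {x : G} (hx : x ∈ D)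
    {z : ↥(nbGroup D x)} (hz : qmap D x z = 1) : (z : G) = 1 ∨ (z : G) = x := by
  have h := (QuotientGroup.eq_one_iff z).1 hz
  rw [hF.center_nbGroup x hx, Subgroup.mem_subgroupOf] at h
  obtain ⟨n, hn⟩ := Subgroup.mem_zpowers_iff.1 h
  have hxx : x ^ (2 : ℤ) = 1 := by rw [zpow_two]; exact mul_self hD.1 hx
  rcases Int.even_or_odd' n with ⟨k, rfl | rfl⟩
  · exact Or.inl (by rw [← hn, zpow_mul, hxx, one_zpow])
  · exact Or.inr (by rw [← hn, zpow_add_one, zpow_mul, hxx, one_zpow, one_mul])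

/-- A set not commuting with `x` whose size is prime to three has a point fixed by a 3-subgroup. -/
theorem exists_fixed_outside (hD : IsThreeTranspositionGroup D) (hF : Facts23 D) {x : G} (hx : x ∈ D)
    {P : Subgroup G} (hP : IsPGroup 3 P) (hPx : ∀ p ∈ P, Commute p x) :
    ∃ j ∈ D, ¬ Commute x j ∧ ∀ p ∈ P, Commute p j := by
  classical
  set O := D \ insert x (nb D x) with hO
  have hcard : O.ncard = 28160 := by
    rw [hO, Set.ncard_sdiff (Set.insert_subset hx fun y hy => hy.1) (Set.toFinite _),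
      Set.ncard_insert_of_notMem (fun h => h.2.1 rfl) (Set.toFinite _), hF.ncard_D, hF.ncard_nb x hx]
  have hmem : ∀ y, y ∈ O ↔ y ∈ D ∧ ¬ Commute x y := fun y => by
    refine ⟨fun h => ⟨h.1, fun hc => h.2 ?_⟩, fun h => ⟨h.1, ?_⟩⟩
    · by_cases e : y = x
      exacts [Or.inl e, Or.inr ⟨h.1, e, hc⟩]
    · rintro (e | e)
      · exact h.2 (e ▸ Commute.refl x)
      · exact h.2 e.2.2
  have hst : ∀ p ∈ P, ∀ y ∈ O, p * y * p⁻¹ ∈ O := fun p hp y hy => by
    rw [hmem] at hy ⊢
    refine ⟨hD.2.1 p y hy.1, fun hc => hy.2 ((commute_conj_iff p).1 ?_)⟩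
    rwa [(hPx p hp).eq, mul_inv_cancel_right]
  letI : MulAction ↥P ↥O :=
    { smul := fun p y => ⟨(p : G) * y * (p : G)⁻¹, hst p p.2 y y.2⟩
      one_smul := fun y => Subtype.ext (show (1 : G) * y * (1 : G)⁻¹ = y by group)
      mul_smul := fun a b y => Subtype.ext (show (a * b : G) * y * (a * b : G)⁻¹ =
        (a : G) * ((b : G) * y * (b : G)⁻¹) * (a : G)⁻¹ by group) }
  have : Fact (Nat.Prime 3) := ⟨Nat.prime_three⟩
  obtain ⟨⟨j, hj⟩, hfix⟩ := hP.nonempty_fixed_point_of_prime_not_dvd_card (α := ↥O)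
    (by rw [Nat.card_coe_set_eq, hcard]; norm_num)
  refine ⟨j, ((hmem j).1 hj).1, ((hmem j).1 hj).2, fun p hp => ?_⟩
  have := congrArg Subtype.val (hfix ⟨p, hp⟩)
  exact mul_inv_eq_iff_eq_mul.1 this

/-- A 3-subgroup of the quotient lifts. -/
theorem exists_lift_three {H Q : Type u} [Group H] [Group Q] [Finite H] (q : H →* Q) (hq : Function.Surjective q)
    {R : Subgroup Q} (hR : IsPGroup 3 R) : ∃ P : Subgroup H, IsPGroup 3 P ∧ ∀ r ∈ R, ∃ p ∈ P, q p = r := by
  have : Fact (Nat.Prime 3) := ⟨Nat.prime_three⟩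
  let f : ↥(R.comap q) →* ↥R := q.subgroupComap R
  have hf : Function.Surjective f := q.subgroupComap_surjective_of_surjective R hq
  obtain ⟨S⟩ : Nonempty (Sylow 3 ↥(R.comap q)) := inferInstance
  haveI : Finite ↥R := Finite.of_surjective f hf
  obtain ⟨n, hn⟩ := IsPGroup.iff_card.1 hR
  have h1 : ((S : Subgroup ↥(R.comap q)).map f).index ∣ 3 ^ n :=
    hn ▸ Subgroup.index_dvd_card _
  have h2 : ((S : Subgroup ↥(R.comap q)).map f).index ∣ (S : Subgroup ↥(R.comap q)).index :=
    Subgroup.index_map_dvd _ hf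
  have htop : (S : Subgroup ↥(R.comap q)).map f = ⊤ := by
    refine Subgroup.index_eq_one.1 ?_
    obtain ⟨m, -, hm⟩ := (Nat.dvd_prime_pow Nat.prime_three).1 h1
    rcases m with _ | m
    · simpa using hm
    · exact absurd (dvd_trans (by rw [hm]; exact dvd_pow_self 3 (by omega)) h2) S.not_dvd_index
  refine ⟨(S : Subgroup ↥(R.comap q)).map (R.comap q).subtype, S.2.map _, fun r hr => ?_⟩
  obtain ⟨k, hk, hkr⟩ := htop ▸ Subgroup.mem_top (⟨r, hr⟩ : ↥R)
  exact ⟨k, ⟨k, hk, rfl⟩, congrArg Subtype.val hkr⟩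

/-- The number of a node of `Y₃₄₂` among those of `Y₃₃₂`; the new node `j` gets `9`. -/
def idx9 : Spor.Fi23.Gen → ℕ
  | .a => 0 | .b => 1 | .c => 2 | .d => 3 | .e => 4 | .f => 5 | .g => 6 | .h => 7 | .i => 8 | .j => 9

theorem idx9_label : ∀ a b, idx9 a ≠ 9 → idx9 b ≠ 9 →
    idx9 a < 9 ∧ Spor.coxLabel Spor.Fi23.edges a b = Fischer3T22.lab9 (idx9 a) (idx9 b) := by
  intro a b
  cases a <;> cases b <;> first
    | (intro h _; exact absurd rfl h)
    | (intro _ h; exact absurd rfl h)
    | exact fun _ _ => ⟨by decide, by decide +kernel⟩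

theorem j_label : ∀ a, Spor.coxLabel Spor.Fi23.edges a .j = (if idx9 a = 9 then 1 else if idx9 a = 6 then 3 else 2) ∧
    Spor.coxLabel Spor.Fi23.edges .j a = (if idx9 a = 9 then 1 else if idx9 a = 6 then 3 else 2) := by
  intro a
  cases a <;> decide +kernel

theorem lab9_cases : ∀ a, a < 9 → ∀ b, b < 9 →
    (a = b ∧ Fischer3T22.lab9 a b = 1) ∨ Fischer3T22.lab9 a b = 2 ∨ Fischer3T22.lab9 a b = 3 := by
  intro a ha b hb
  interval_cases a <;> interval_cases b <;> decide +kernel

/-- Every group of type M(23) is the presented `Fi₂₃`, the first generator going into the class. -/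
theorem exists_iso_fi23_mem (hD : IsThreeTranspositionGroup D) (h23 : IsOfTypeM23 G D) (hF : Facts23 D) :
    ∃ e : Spor.Fi23 ≃* G, e (PresentedGroup.of Spor.Fi23.Gen.a) ∈ D := by
  classical
  have hgood : Good D := (M23Struct19.good_of_m23 hD h23).1
  obtain ⟨-, x, hx, -⟩ := id h23
  set q := qmap D x
  obtain ⟨e, he⟩ := Fi22Unique49.exists_iso_fi22 (hF.derived_class x hx) (hF.derived_prim x hx) (hF.derived_type x hx)
  have hQ := hF.derived_class x hx
  have hclsmem : ∀ z, z ∈ Fischer3T22.cls ↔ e z ∈ derivedClass D x := by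
    intro z
    constructor
    · intro hz
      obtain ⟨g, rfl⟩ := isConj_iff.1 (show IsConj (Fischer3T22.gn 0) z from hz)
      rw [map_mul, map_mul, map_inv]
      exact hQ.2.1 _ _ he
    · intro hz
      obtain ⟨g, hg⟩ := (hF.derived_prim x hx).1 _ he _ hz
      refine isConj_iff.2 ⟨e.symm g, e.injective ?_⟩
      rw [map_mul, map_mul, map_inv, e.apply_symm_apply]
      exact hg
  have hcls : Fischer3T22.cls.ncard = 3510 := by
    have h1 : Fischer3T22.cls.ncard = (derivedClass D x).ncard :=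
      Set.ncard_congr (fun z _ => e z) (fun z hz => (hclsmem z).1 hz) (fun a b _ _ h => e.injective h)
        fun y hy => ⟨e.symm y, (hclsmem _).2 (by rwa [e.apply_symm_apply]), e.apply_symm_apply y⟩
    rw [h1, ← ncard_nb_down hD hgood hx, hF.ncard_nb x hx]
  obtain ⟨R, hR, hcfg⟩ := Fischer3T22.exists_config hcls
  obtain ⟨P, hP, hPR⟩ := exists_lift_three q (QuotientGroup.mk'_surjective _) (hR.map e.toMonoidHom)
  obtain ⟨j, hj, hxj, hPj⟩ := exists_fixed_outside hD hF hx (P := P.map (nbGroup D x).subtype) (hP.map _) (by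
    rintro _ ⟨p, -, rfl⟩
    exact commute_of_mem_closure p.2)
  set T : Set Spor.Fi22 := {z | ∃ y, ∃ hy : y ∈ nb D x, y ∈ nb D j ∧ e z = q (inc hy)}
  have hTcard : T.ncard = 351 := by
    rw [← hF.ncard_com2_not x hx j hj hxj]
    symm
    refine Set.ncard_congr (fun y hy => e.symm (q (inc hy.1))) (fun y hy => ⟨y, hy.1, hy.2, e.apply_symm_apply _⟩)
      (fun a b ha hb h => qmap_inj hD hgood hx ha.1 hb.1 (e.symm.injective h)) ?_
    rintro z ⟨y, hy, hyj, hz⟩
    exact ⟨y, ⟨hy, hyj⟩, by rw [← hz, e.symm_apply_apply]⟩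
  have hTsub : T ⊆ Fischer3T22.cls := by
    rintro z ⟨y, hy, -, hz⟩
    rw [hclsmem, hz]
    exact qmap_mem hD hgood hx hy
  have hTinv : ∀ r ∈ R, ∀ t ∈ T, r * t * r⁻¹ ∈ T := by
    rintro r hr t ⟨y, hy, hyj, hz⟩
    obtain ⟨p, hp, hpr⟩ := hPR (e r) ⟨r, hr, rfl⟩
    have hpj : Commute (p : G) j := hPj _ ⟨p, hp, rfl⟩
    have hy' : (p : G) * y * (p : G)⁻¹ ∈ nb D x := by
      have := M22Struct66.conj_mem_nb hD.2.1 (p : G) hy
      rwa [(commute_of_mem_closure p.2).eq, mul_inv_cancel_right] at this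
    refine ⟨_, hy', ?_, ?_⟩
    · have := M22Struct66.conj_mem_nb hD.2.1 (p : G) hyj
      rwa [hpj.eq, mul_inv_cancel_right] at this
    · rw [show inc hy' = p * inc hy * p⁻¹ from Subtype.ext rfl, map_mul, map_mul, map_inv, map_mul, map_mul,
        map_inv, hpr, hz]
  obtain ⟨c, hc, hcox, hsp, hsev⟩ := hcfg T hTsub hTcard hTinv
  have hex : ∀ k, ∃ u, k < 9 → ∃ hu : u ∈ nb D x, q (inc hu) = e (c k) := fun k => by
    by_cases hk : k < 9
    · obtain ⟨u, hu, huq⟩ := mem_nbrImage.1 ((hclsmem _).1 (hc k hk).1)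
      exact ⟨u, fun _ => ⟨hu, huq⟩⟩
    · exact ⟨1, fun h => absurd h hk⟩
  choose u hu using hex
  have hnb : ∀ k, k < 9 → u k ∈ nb D x := fun k hk => (hu k hk).1
  have huq : ∀ k (hk : k < 9), q (inc (hnb k hk)) = e (c k) := fun k hk => (hu k hk).2
  have huj : ∀ k, k < 9 → (Commute (u k) j ↔ k ≠ 6) := fun k hk => by
    rw [← (hc k hk).2]
    constructor
    · intro h
      exact ⟨u k, hnb k hk, ⟨(hnb k hk).1, fun e' => hxj (e' ▸ (hnb k hk).2.2), h.symm⟩, (huq k hk).symm⟩
    · rintro ⟨y, hy, hyj, hz⟩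
      rw [show u k = y from qmap_inj hD hgood hx (hnb k hk) hy ((huq k hk).trans hz)]
      exact hyj.2.2.symm
  have hS := hD.1
  have hsq : ∀ k, k < 9 → u k * u k = 1 := fun k hk => mul_self hS (hnb k hk).1
  -- the pairs among the nine
  have hpair : ∀ a, a < 9 → ∀ b, b < 9 → (u a * u b) ^ Fischer3T22.lab9 a b = 1 := by
    intro a ha b hb
    have hrel : (q (inc (hnb a ha)) * q (inc (hnb b hb))) ^ Fischer3T22.lab9 a b = 1 := by
      rw [huq a ha, huq b hb, ← map_mul, ← map_pow, hcox a ha b hb, map_one]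
    by_cases hab : u a = u b
    · rw [hab, hsq b hb, one_pow]
    by_cases hcm : Commute (u a) (u b)
    · have h2 : (u a * u b) ^ 2 = 1 := by rw [hcm.mul_pow, pow_two, pow_two, hsq a ha, hsq b hb, one_mul]
      rcases lab9_cases a ha b hb with ⟨e', -⟩ | hl | hl
      · exact absurd (congrArg u e') hab
      · rw [hl, h2]
      · exfalso
        refine hab (qmap_inj hD hgood hx (hnb a ha) (hnb b hb) ?_)
        rw [hl, ← map_mul, pow_succ, ← map_pow, show (inc (hnb a ha) * inc (hnb b hb)) ^ 2 = 1 from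
          Subtype.ext h2, map_one, one_mul, map_mul] at hrel
        rw [eq_inv_of_mul_eq_one_left hrel, ← map_inv]
        exact congrArg q (Subtype.ext (inv_eq hS (hnb b hb).1))
    · have h3 : (u a * u b) ^ 3 = 1 := cube_of_not_commute hS (hnb a ha).1 (hnb b hb).1 hcm
      rcases lab9_cases a ha b hb with ⟨e', -⟩ | hl | hl
      · exact absurd (congrArg u e') hab
      · exfalso
        refine hcm ((commute_iff_qmap hD hgood hx (hnb a ha) (hnb b hb)).1 ?_)
        rw [hl, pow_two] at hrel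
        show _ = _
        have ia : q (inc (hnb a ha)) * q (inc (hnb a ha)) = 1 := by
          rw [← map_mul, show inc (hnb a ha) * inc (hnb a ha) = 1 from Subtype.ext (hsq a ha), map_one]
        have ib : q (inc (hnb b hb)) * q (inc (hnb b hb)) = 1 := by
          rw [← map_mul, show inc (hnb b hb) * inc (hnb b hb) = 1 from Subtype.ext (hsq b hb), map_one]
        rw [eq_inv_of_mul_eq_one_left hrel, mul_inv_rev, inv_eq_of_mul_eq_one_right ia, inv_eq_of_mul_eq_one_right ib]
      · rw [hl, h3]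
  -- a relator of the quotient avoiding the sixth node
  have hword : ∀ w : List ℕ, (∀ k ∈ w, k < 9 ∧ k ≠ 6) → ∀ n, eval c w ^ n = 1 → eval u w ^ n = 1 := by
    intro w hw n hn
    have key : ∀ w : List ℕ, (∀ k ∈ w, k < 9 ∧ k ≠ 6) →
        ∃ z : ↥(nbGroup D x), (z : G) = eval u w ∧ q z = e (eval c w) ∧ Commute (z : G) j := by
      intro w
      induction w with
      | nil => exact fun _ => ⟨1, rfl, by simp [eval], Commute.one_left _⟩
      | cons k w ih =>
        intro h
        obtain ⟨z, hz1, hz2, hz3⟩ := ih fun m hm => h m (List.mem_cons_of_mem _ hm)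
        obtain ⟨hk, hk6⟩ := h k List.mem_cons_self
        refine ⟨z * inc (hnb k hk), ?_, ?_, ?_⟩
        · show (z : G) * u k = eval u w * u k
          rw [hz1]
        · rw [map_mul, hz2, huq k hk, ← map_mul]
          rfl
        · exact hz3.mul_left ((huj k hk).2 hk6)
    obtain ⟨z, hz1, hz2, hz3⟩ := key w hw
    have h1 : q (z ^ n) = 1 := by rw [map_pow, hz2, ← map_pow, hn, map_one]
    rcases eq_one_or_self hD hF hx h1 with h | h
    · simpa [← hz1] using h
    · exact absurd (h ▸ (by simpa using hz3.pow_left n) : Commute x j) hxj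
  have hsp' := hword Fischer3T22.spiderW (by decide) 10 hsp
  have hsev' := hword Fischer3T22.sevenW (by decide) 9 hsev
  -- the ten
  set v : Spor.Fi23.Gen → G := fun a => if idx9 a = 9 then j else u (idx9 a)
  have hinv : ∀ k, k < 9 → (u k)⁻¹ = u k := fun k hk => inv_eq hS (hnb k hk).1
  have hrels : ∀ r ∈ Spor.coxRelators Spor.Fi23.edges ∪ {r | r ∈ Spor.Fi23.extra}, FreeGroup.lift v r = 1 := by
    rintro r (⟨a, -, b, -, rfl⟩ | hr)
    · simp only [map_pow, map_mul, FreeGroup.lift_apply_of, v]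
      by_cases ha : idx9 a = 9
      · have : a = .j := by cases a <;> first | rfl | exact absurd ha (by decide)
        subst this
        rw [(j_label b).2, if_pos ha]
        by_cases hb : idx9 b = 9
        · rw [if_pos hb, if_pos hb, pow_one, mul_self hS hj]
        · rw [if_neg hb, if_neg hb]
          have hlt : idx9 b < 9 := (idx9_label b b hb hb).1
          by_cases hb6 : idx9 b = 6
          · rw [if_pos hb6]
            exact cube_of_not_commute hS hj (hnb _ hlt).1 fun h => (huj _ hlt).1 h.symm hb6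
          · rw [if_neg hb6, ((huj _ hlt).2 hb6).symm.mul_pow, pow_two, pow_two, mul_self hS hj, hsq _ hlt, one_mul]
      · have hlta : idx9 a < 9 := (idx9_label a a ha ha).1
        by_cases hb : idx9 b = 9
        · have : b = .j := by cases b <;> first | rfl | exact absurd hb (by decide)
          subst this
          rw [(j_label a).1, if_neg ha, if_neg ha, if_pos hb]
          by_cases ha6 : idx9 a = 6
          · rw [if_pos ha6]
            exact cube_of_not_commute hS (hnb _ hlta).1 hj fun h => (huj _ hlta).1 h ha6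
          · rw [if_neg ha6, ((huj _ hlta).2 ha6).mul_pow, pow_two, pow_two, mul_self hS hj, hsq _ hlta, one_mul]
        · rw [if_neg ha, if_neg hb, (idx9_label a b ha hb).2]
          exact hpair _ hlta _ (idx9_label b b hb hb).1
    · simp only [Set.mem_setOf_eq, Spor.Fi23.extra, List.mem_cons, List.not_mem_nil, or_false] at hr
      rcases hr with rfl | rfl
      · have := congrArg Inv.inv hsp'
        rw [← inv_pow, inv_one] at this
        simpa [map_pow, map_mul, v, idx9, eval, Fischer3T22.spiderW, mul_inv_rev, hinv, mul_assoc] using this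
      · have := congrArg Inv.inv hsev'
        rw [← inv_pow, inv_one] at this
        simpa [map_pow, map_mul, v, idx9, eval, Fischer3T22.sevenW, mul_inv_rev, hinv, mul_assoc] using this
  set φ : Spor.Fi23 →* G := PresentedGroup.toGroup hrels
  obtain ⟨hsimple, hcard⟩ := S1697.result
  haveI := S1697.order_le.1
  have hinj : Function.Injective φ := by
    rcases φ.normal_ker.eq_bot_or_eq_top with h | h
    · exact (MonoidHom.ker_eq_bot_iff φ).mp h
    · exfalso
      have ha : φ (PresentedGroup.of Spor.Fi23.Gen.a) = 1 := MonoidHom.mem_ker.mp (by rw [h]; trivial)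
      rw [show φ (PresentedGroup.of Spor.Fi23.Gen.a) = u 0 from PresentedGroup.toGroup.of hrels] at ha
      exact ne_one hS (hnb 0 (by norm_num)).1 ha
  refine ⟨MulEquiv.ofBijective φ ((Nat.bijective_iff_injective_and_card φ).2
    ⟨hinj, by rw [hcard, hF.card_G]; norm_num⟩), ?_⟩
  rw [MulEquiv.ofBijective_apply,
    show φ (PresentedGroup.of Spor.Fi23.Gen.a) = u 0 from PresentedGroup.toGroup.of hrels]
  exact (hnb 0 (by norm_num)).1

/-- Every group of type M(23) is the presented `Fi₂₃`. -/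
theorem exists_iso_fi23 (hD : IsThreeTranspositionGroup D) (h23 : IsOfTypeM23 G D) (hF : Facts23 D) :
    Nonempty (G ≃* Spor.Fi23) :=
  let ⟨e, _⟩ := exists_iso_fi23_mem hD h23 hF
  ⟨e.symm⟩

/-- Two groups of type M(23) are isomorphic with their classes. -/
theorem exists_iso_m23 {H : Type*} [Group H] [Finite H] {E : Set H} (hD : IsThreeTranspositionGroup D)
    (hprim : IsPrimitiveUnderConj D) (h23 : IsOfTypeM23 G D) (hF : Facts23 D) (hE : IsThreeTranspositionGroup E)
    (hprim' : IsPrimitiveUnderConj E) (h23' : IsOfTypeM23 H E) (hF' : Facts23 E) : ∃ e : G ≃* H, e '' D = E := by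
  obtain ⟨e₁, h₁⟩ := exists_iso_fi23_mem hD h23 hF
  obtain ⟨e₂, h₂⟩ := exists_iso_fi23_mem hE h23' hF'
  refine ⟨e₁.symm.trans e₂, ?_⟩
  set t := PresentedGroup.of (rels := Spor.coxRelators Spor.Fi23.edges ∪ {r | r ∈ Spor.Fi23.extra}) Spor.Fi23.Gen.a
  ext y
  constructor
  · rintro ⟨x, hx, rfl⟩
    obtain ⟨g, rfl⟩ := hprim.1 _ h₁ x hx
    simp only [map_mul, map_inv, MulEquiv.trans_apply, MulEquiv.symm_apply_apply]
    exact hE.2.1 _ _ h₂
  · intro hy
    obtain ⟨g, rfl⟩ := hprim'.1 _ h₂ y hy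
    refine ⟨e₁ (e₂.symm g) * e₁ t * (e₁ (e₂.symm g))⁻¹, hD.2.1 _ _ h₁, ?_⟩
    simp [MulEquiv.trans_apply]

end Cfsg.Agent.Lib.M24Struct51
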