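import Mathlib
import Cfsg.Agent.Lib.M24Struct51.Clauses
import Cfsg.Agent.Lib.M24Struct51.Iso23

/-!
# Type M(24): the base facts
-/

set_option autoImplicit false

namespace Cfsg.Agent.Lib.M24Struct51

open Cfsg
open Cfsg.Agent.Lib.Fischer3T

universe u

variable {G : Type u} [Group G] [Finite G] {D : Set G}

/-- The base facts of type M(24). -/
theorem facts24_of_m24 (hD : IsThreeTranspositionGroup D) (hprim : IsPrimitiveUnderConj D)
    (h : IsOfTypeM24 G D) : Facts24 D :=
  facts24_of_iso hD hprim h fun {_ _ _ _} hE _ h23 hF => exists_iso_fi23 hE h23 hF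

end Cfsg.Agent.Lib.M24Struct51
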